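import Mathlib

set_option autoImplicit false

namespace Cfsg.Agent.Lib.Helper66.S4719

universe u

/-- [FIXQ] (hedge by helper66): an automorphism of `L ⧸ Z(L)` induced by an automorphism `e` of `L`
has at most as many fixed points as `e`. -/
theorem card_fix_quot_le {L : Type u} [Group L] [Finite L] (e : L ≃* L)
    (τ : L ⧸ Subgroup.center L ≃* L ⧸ Subgroup.center L)
    (hτ : ∀ x : L, τ (x : L ⧸ Subgroup.center L) = ((e x : L) : L ⧸ Subgroup.center L)) :
    Nat.card {y : L ⧸ Subgroup.center L // τ y = y} ≤ Nat.card {x : L // e x = x} := by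
  classical
  -- `D = {x | e x * x⁻¹ ∈ Z(L)}`
  have hmemZ : ∀ {z : L}, z ∈ Subgroup.center L → ∀ w : L, w * z = z * w := fun hz w =>
    Subgroup.mem_center_iff.mp hz w
  let D : Subgroup L :=
    { carrier := {x | e x * x⁻¹ ∈ Subgroup.center L}
      one_mem' := by simp
      mul_mem' := by
        intro a b ha hb
        simp only [Set.mem_ofPred_eq] at ha hb ⊢
        have : e (a * b) * (a * b)⁻¹ = (e b * b⁻¹) * (e a * a⁻¹) := by
          rw [map_mul, mul_inv_rev]
          calc e a * e b * (b⁻¹ * a⁻¹) = e a * ((e b * b⁻¹) * a⁻¹) := by simp only [mul_assoc]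
            _ = (e a * (e b * b⁻¹)) * a⁻¹ := by simp only [mul_assoc]
            _ = ((e b * b⁻¹) * e a) * a⁻¹ := by rw [hmemZ hb]
            _ = (e b * b⁻¹) * (e a * a⁻¹) := by simp only [mul_assoc]
        rw [this]
        exact Subgroup.mul_mem _ hb ha
      inv_mem' := by
        intro a ha
        simp only [Set.mem_ofPred_eq] at ha ⊢
        have : e a⁻¹ * a⁻¹⁻¹ = (e a * a⁻¹)⁻¹ := by
          rw [map_inv, inv_inv, mul_inv_rev, inv_inv]
          -- (e a)⁻¹ * a = a * (e a)⁻¹ since z = e a a⁻¹ central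
          have h1 : a * (e a * a⁻¹) = (e a * a⁻¹) * a := hmemZ ha a
          have h2 : a * e a * a⁻¹ = e a := by
            rw [mul_assoc, h1]; simp
          have h3 : a * e a = e a * a := by
            calc a * e a = (a * e a * a⁻¹) * a := by simp
              _ = e a * a := by rw [h2]
          calc (e a)⁻¹ * a = (e a)⁻¹ * (a * e a) * (e a)⁻¹ := by simp [mul_assoc]
            _ = (e a)⁻¹ * (e a * a) * (e a)⁻¹ := by rw [h3]
            _ = a * (e a)⁻¹ := by simp
        rw [this]
        exact Subgroup.inv_mem _ ha }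
  have hDmem : ∀ x : L, x ∈ D ↔ e x * x⁻¹ ∈ Subgroup.center L := fun x => Iff.rfl
  -- Step A : |Fix τ| * |Z| ≤ |D|
  have hA : Nat.card {y : L ⧸ Subgroup.center L // τ y = y} * Nat.card (Subgroup.center L)
      ≤ Nat.card D := by
    rw [← Nat.card_prod]
    refine Nat.card_le_card_of_injective
      (fun p => (⟨Quotient.out p.1.1 * (p.2 : L), ?_⟩ : D)) ?_
    · rw [hDmem]
      obtain ⟨⟨y, hy⟩, ⟨z, hz⟩⟩ := p
      simp only
      have hmk : ((Quotient.out y * z : L) : L ⧸ Subgroup.center L) = y := by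
        rw [QuotientGroup.mk_mul, (QuotientGroup.eq_one_iff z).mpr hz, mul_one]
        exact Quotient.out_eq' y
      have h1 : ((e (Quotient.out y * z) : L) : L ⧸ Subgroup.center L)
          = ((Quotient.out y * z : L) : L ⧸ Subgroup.center L) := by
        rw [← hτ, hmk, hy]
      rw [QuotientGroup.eq] at h1
      -- h1 : (e w)⁻¹ * w ∈ Z ; want e w * w⁻¹ ∈ Z
      set w := Quotient.out y * z with hw
      have h2 : ((e w)⁻¹ * w)⁻¹ ∈ Subgroup.center L := Subgroup.inv_mem _ h1
      have h3 : e w * w⁻¹ = e w * ((e w)⁻¹ * w)⁻¹ * (e w)⁻¹ := by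
        simp [mul_assoc]
      rw [h3]
      exact (Subgroup.center L).normal_of_characteristic.conj_mem _ h2 _
    · rintro ⟨⟨y, hy⟩, ⟨z, hz⟩⟩ ⟨⟨y', hy'⟩, ⟨z', hz'⟩⟩ h
      simp only [Subtype.mk.injEq] at h
      have hmk : ∀ (y : L ⧸ Subgroup.center L) (z : L), z ∈ Subgroup.center L →
          ((Quotient.out y * z : L) : L ⧸ Subgroup.center L) = y := by
        intro y z hz
        rw [QuotientGroup.mk_mul, (QuotientGroup.eq_one_iff z).mpr hz, mul_one]
        exact Quotient.out_eq' y
      have hyy : y = y' := by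
        rw [← hmk y z hz, ← hmk y' z' hz', h]
      subst hyy
      have hzz : z = z' := mul_left_cancel h
      subst hzz
      rfl
  -- Step B : |D| ≤ |Fix e| * |Z|
  let κ : D →* Subgroup.center L :=
    { toFun := fun x => ⟨e (x : L) * (x : L)⁻¹, x.2⟩
      map_one' := by ext; simp
      map_mul' := by
        intro a b
        ext
        simp only [Subgroup.coe_mul, map_mul, mul_inv_rev]
        have hb : e (b : L) * (b : L)⁻¹ ∈ Subgroup.center L := b.2
        calc e (a : L) * e (b : L) * ((b : L)⁻¹ * (a : L)⁻¹)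
            = e (a : L) * ((e (b : L) * (b : L)⁻¹) * (a : L)⁻¹) := by simp only [mul_assoc]
          _ = e (a : L) * ((a : L)⁻¹ * (e (b : L) * (b : L)⁻¹)) := by rw [hmemZ hb]
          _ = e (a : L) * (a : L)⁻¹ * (e (b : L) * (b : L)⁻¹) := by simp only [mul_assoc] }
  have hB : Nat.card D ≤ Nat.card (Subgroup.center L) * Nat.card {x : L // e x = x} := by
    rw [← Subgroup.index_mul_card κ.ker, Subgroup.index_ker]
    refine Nat.mul_le_mul ?_ ?_
    · exact Nat.card_le_card_of_injective _ Subtype.val_injective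
    · refine Nat.card_le_card_of_injective
        (fun x => (⟨((x : D) : L), ?_⟩ : {x : L // e x = x})) ?_
      · have hx := x.2
        rw [MonoidHom.mem_ker] at hx
        have hx1 : e ((x : D) : L) * ((x : D) : L)⁻¹ = 1 := congrArg Subtype.val hx
        exact mul_inv_eq_one.mp hx1
      · intro a b h
        simp only [Subtype.mk.injEq] at h
        exact Subtype.ext (Subtype.ext h)
  have hZpos : 0 < Nat.card (Subgroup.center L) := Nat.card_pos
  have := hA.trans hB
  rw [mul_comm] at this
  exact Nat.le_of_mul_le_mul_left this hZpos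

end Cfsg.Agent.Lib.Helper66.S4719
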