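import Cfsg.Agent.Lib.Helper21.Components

set_option autoImplicit false

namespace Cfsg.Agent.Lib.Helper66.S4719

open Cfsg

universe u

variable {G : Type u} [Group G]

/-- [COMPA] (hedge by helper66): a component moved by the involution `t` has central quotient of
order at most `|C_G(t)|`, via the homomorphism `x ↦ x · t x t⁻¹`. -/
theorem card_quot_center_le_of_conj_ne [Finite G] (L : Subgroup G) (hL : IsComponent L) (t : G)
    (ht : t * t = 1) (hne : L.map (MulAut.conj t).toMonoidHom ≠ L) :
    Nat.card (↥L ⧸ Subgroup.center ↥L) ≤ Nat.card (Subgroup.centralizer ({t} : Set G)) := by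
  classical
  have hL' : IsComponent (L.map (MulAut.conj t).toMonoidHom) :=
    Cfsg.Agent.Lib.Helper21.isComponent_map_conj hL t
  have hcomm : ⁅L, L.map (MulAut.conj t).toMonoidHom⁆ = ⊥ :=
    Cfsg.Agent.Lib.Helper21.component_commutator_eq_bot_of_ne hL hL' (Ne.symm hne)
  have htinv : t⁻¹ = t := by
    rw [inv_eq_iff_mul_eq_one]; exact ht
  rw [Subgroup.commutator_eq_bot_iff_le_centralizer] at hcomm
  -- every `x ∈ L` commutes with every `t y t⁻¹`, `y ∈ L`
  have hc : ∀ x ∈ L, ∀ y ∈ L, x * (t * y * t) = (t * y * t) * x := by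
    intro x hx y hy
    have hmem : t * y * t ∈ L.map (MulAut.conj t).toMonoidHom :=
      ⟨y, hy, by simp [MulAut.conj_apply, htinv]⟩
    have h1 := hcomm hx
    rw [Subgroup.mem_centralizer_iff] at h1
    exact (h1 _ hmem).symm
  have htt : ∀ z : G, t * (t * z) = z := fun z => by rw [← mul_assoc, ht, one_mul]
  -- the homomorphism
  let φ : ↥L →* ↥(Subgroup.centralizer ({t} : Set G)) :=
    { toFun := fun x => ⟨(x : G) * (t * (x : G) * t), by
        rw [Subgroup.mem_centralizer_singleton_iff]
        have h := hc x x.2 x x.2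
        calc (x : G) * (t * (x : G) * t) * t
            = (t * (x : G) * t) * (x : G) * t := by rw [h]
          _ = t * ((x : G) * (t * (x : G) * t)) := by
              simp only [mul_assoc]⟩
      map_one' := by
        ext; simp [ht]
      map_mul' := by
        intro x y
        ext
        simp only [Subgroup.coe_mul]
        have h := hc y y.2 x x.2
        calc (x : G) * (y : G) * (t * ((x : G) * (y : G)) * t)
            = (x : G) * (y : G) * (t * (x : G) * (t * t) * (y : G) * t) := by
              rw [ht]; simp only [mul_assoc, one_mul]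
          _ = (x : G) * ((y : G) * (t * (x : G) * t)) * (t * (y : G) * t) := by
              simp only [mul_assoc]
          _ = (x : G) * ((t * (x : G) * t) * (y : G)) * (t * (y : G) * t) := by rw [h]
          _ = (x : G) * (t * (x : G) * t) * ((y : G) * (t * (y : G) * t)) := by
              simp only [mul_assoc] }
  have hker : φ.ker ≤ Subgroup.center ↥L := by
    intro x hx
    rw [MonoidHom.mem_ker] at hx
    have hx1 : (x : G) * (t * (x : G) * t) = 1 := congrArg Subtype.val hx
    rw [Subgroup.mem_center_iff]
    intro y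
    ext
    simp only [Subgroup.coe_mul]
    -- x = (t x t)⁻¹ = t x⁻¹ t
    have hx2 : (x : G) = t * (x : G)⁻¹ * t := by
      have : (x : G) = (t * (x : G) * t)⁻¹ := eq_inv_of_mul_eq_one_left hx1
      calc (x : G) = (t * (x : G) * t)⁻¹ := this
        _ = t * (x : G)⁻¹ * t := by simp only [mul_inv_rev, htinv, mul_assoc]
    have h := hc y y.2 (x⁻¹ : ↥L) (x⁻¹ : ↥L).2
    simp only [Subgroup.coe_inv] at h
    rw [← hx2] at h
    exact h
  calc Nat.card (↥L ⧸ Subgroup.center ↥L) = (Subgroup.center ↥L).index := rfl
    _ ≤ φ.ker.index := Nat.le_of_dvd (Nat.pos_of_ne_zero Subgroup.index_ne_zero_of_finite)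
          (Subgroup.index_dvd_of_le hker)
    _ = Nat.card φ.range := Subgroup.index_ker φ
    _ ≤ Nat.card (Subgroup.centralizer ({t} : Set G)) :=
          Nat.card_le_card_of_injective _ Subtype.val_injective

end Cfsg.Agent.Lib.Helper66.S4719
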