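import Cfsg.Agent.Lib.Helper66.S4719.FixQ
import Cfsg.Agent.Lib.Helper2.S4719.Bfa
import Cfsg.Agent.Lib.Helper79.S4719.Defs

set_option autoImplicit false

namespace Cfsg.Agent.Lib.Helper66.S4719

open Cfsg Cfsg.Agent.Lib.Helper79.S4719

universe u

variable {G : Type u} [Group G]

/-- [COMPB] (hedge by helper66): a quasisimple subgroup normalized by the involution `t` has
central quotient of order at most `(2 |C_G(t)|²)!` (Brauer–Fowler for the induced automorphism). -/
theorem card_quot_center_le_of_conj_eq [Finite G] (L : Subgroup G) (hL : IsQuasisimple L) (t : G)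
    (ht : t * t = 1) (heq : L.map (MulAut.conj t).toMonoidHom = L) :
    Nat.card (↥L ⧸ Subgroup.center ↥L) ≤ compB (Nat.card (Subgroup.centralizer ({t} : Set G))) := by
  classical
  have htinv : t⁻¹ = t := by
    rw [inv_eq_iff_mul_eq_one]; exact ht
  have htt : ∀ z : G, t * (t * z) = z := fun z => by rw [← mul_assoc, ht, one_mul]
  have hmem : ∀ x ∈ L, t * x * t ∈ L := by
    intro x hx
    have h : t * x * t⁻¹ ∈ L.map (MulAut.conj t).toMonoidHom :=
      ⟨x, hx, by simp [MulAut.conj_apply]⟩
    rw [heq, htinv] at h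
    exact h
  let e : ↥L ≃* ↥L :=
    { toFun := fun x => ⟨t * (x : G) * t, hmem x x.2⟩
      invFun := fun x => ⟨t * (x : G) * t, hmem x x.2⟩
      left_inv := by
        intro x; ext
        simp only [mul_assoc, htt, ht, mul_one]
      right_inv := by
        intro x; ext
        simp only [mul_assoc, htt, ht, mul_one]
      map_mul' := by
        intro x y; ext
        simp only [Subgroup.coe_mul, mul_assoc, htt] }
  have he_apply : ∀ x : ↥L, ((e x : ↥L) : G) = t * (x : G) * t := fun x => rfl
  have hee : ∀ x : ↥L, e (e x) = x := by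
    intro x; ext
    rw [he_apply, he_apply]
    simp only [mul_assoc, htt, ht, mul_one]
  have hchar : (Subgroup.center ↥L).map (e : ↥L →* ↥L) = Subgroup.center ↥L :=
    Subgroup.characteristic_iff_map_eq.mp inferInstance e
  let τ : ↥L ⧸ Subgroup.center ↥L ≃* ↥L ⧸ Subgroup.center ↥L :=
    QuotientGroup.congr (Subgroup.center ↥L) (Subgroup.center ↥L) e hchar
  have hτ : ∀ x : ↥L, τ (x : ↥L ⧸ Subgroup.center ↥L) = ((e x : ↥L) : ↥L ⧸ Subgroup.center ↥L) :=
    fun x => rfl
  have hττ : ∀ y, τ (τ y) = y := by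
    intro y
    induction y using QuotientGroup.induction_on with
    | H x => rw [hτ, hτ, hee]
  have hperf : Group.IsPerfect ↥L := hL.1
  have hsimple : IsSimpleGroup (↥L ⧸ Subgroup.center ↥L) := hL.2
  have hZ : Subgroup.center (↥L ⧸ Subgroup.center ↥L) = ⊥ :=
    Group.IsPerfect.center_quotient_center_eq_bot ↥L
  have h1 := Cfsg.Agent.Lib.Helper2.S4719.bf_aut hZ τ hττ
  have h2 := card_fix_quot_le e τ hτ
  have h3 : Nat.card {x : ↥L // e x = x} ≤ Nat.card (Subgroup.centralizer ({t} : Set G)) := by
    refine Nat.card_le_card_of_injective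
      (fun x => (⟨((x : ↥L) : G), ?_⟩ : Subgroup.centralizer ({t} : Set G))) ?_
    · rw [Subgroup.mem_centralizer_singleton_iff]
      have hx : t * ((x : ↥L) : G) * t = ((x : ↥L) : G) := by
        have := congrArg Subtype.val x.2
        rwa [he_apply] at this
      calc ((x : ↥L) : G) * t = (t * ((x : ↥L) : G) * t) * t := by rw [hx]
        _ = t * ((x : ↥L) : G) := by simp only [mul_assoc, ht, mul_one]
    · intro a b h
      simp only [Subtype.mk.injEq] at h
      exact Subtype.ext (Subtype.ext h)
  unfold compB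
  refine h1.trans (Nat.factorial_le ?_)
  exact Nat.mul_le_mul_left 2 (Nat.pow_le_pow_left (h2.trans h3) 2)

end Cfsg.Agent.Lib.Helper66.S4719
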